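import Groth.Agent.CohtopB.NerveHK
import Groth.Agent.Ega3B.CechNatAbs2
import Groth.Agent.Ega3B.CechNatRes

/-!
# Augmented resolutions: quasi-isomorphisms to `single₀`, and `Ext` computed by them

* `exact_of_desc`: exactness of `X₁ ⟶ X₂ ⟶ X₃` tested by maps out of `X₂`.
* `quasiIso_toSingle₀`: the augmentation of an exact augmented chain complex is a quasi-isomorphism.
* `AugExact A ε`: `⋯ ⟶ A 1 ⟶ A 0 ⟶ G ⟶ 0` is exact; `AugExact.res` the associated `Res`.
* `AugExact.extIso`: `H^n(T) ≅ Ext^n(G, F)` if `T` is (elementwise) the complex `Hom(A, F)` and the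
  `A n` are `Hom(-, F)`-acyclic.
-/

set_option autoImplicit false
universe w v u

open CategoryTheory CategoryTheory.Limits CategoryTheory.Abelian Opposite Simplicial

namespace K297.AugRes

open Groth.Agent.Ega3B.CechNatAbs Groth.Agent.CohtopB

variable {𝒜 : Type u} [Category.{v} 𝒜] [Abelian 𝒜]

lemma exact_of_desc {X₁ X₂ X₃ : 𝒜} (f : X₁ ⟶ X₂) (g : X₂ ⟶ X₃) (w : f ≫ g = 0)
    (h : ∀ (F : 𝒜) (x : X₂ ⟶ F), f ≫ x = 0 → ∃ y : X₃ ⟶ F, g ≫ y = x) :
    (ShortComplex.mk f g w).Exact := by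
  rw [ShortComplex.exact_iff_mono_cokernel_desc]
  obtain ⟨y, hy⟩ := h _ (cokernel.π f) (cokernel.condition f)
  have h1 : cokernel.desc f g w ≫ y = 𝟙 _ := by
    rw [← cancel_epi (cokernel.π f), cokernel.π_desc_assoc, hy, Category.comp_id]
  have : Mono (cokernel.desc f g w ≫ y) := by rw [h1]; infer_instance
  exact mono_of_mono (cokernel.desc f g w) y

lemma quasiIso_toSingle₀ (A : ChainComplex 𝒜 ℕ) (G : 𝒜) (φ : A ⟶ (ChainComplex.single₀ 𝒜).obj G)
    (w : A.d 1 0 ≫ φ.f 0 = 0) (h0 : (ShortComplex.mk (A.d 1 0) (φ.f 0) w).Exact)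
    (he : Epi (φ.f 0)) (h : ∀ n, A.ExactAt (n + 1)) : QuasiIso φ := by
  constructor
  intro i
  rcases i with _ | n
  · rw [quasiIsoAt_iff' φ 1 0 0 (by simp) (by simp), ShortComplex.quasiIso_iff_of_zeros']
    · exact ⟨h0, he⟩
    · exact A.shape 0 0 (by simp)
    · rfl
    · rfl
  · rw [quasiIsoAt_iff_exactAt φ (n + 1) (h n)]
    exact ChainComplex.exactAt_succ_single_obj _ n

/-- The augmented complex `⋯ ⟶ A 1 ⟶ A 0 ⟶ G ⟶ 0` is exact. -/
structure AugExact (A : ChainComplex 𝒜 ℕ) {G : 𝒜} (ε : A.X 0 ⟶ G) : Prop where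
  w : A.d 1 0 ≫ ε = 0
  exact0 : (ShortComplex.mk (A.d 1 0) ε w).Exact
  epi : Epi ε
  exact : ∀ n, A.ExactAt (n + 1)

namespace AugExact

variable {A : ChainComplex 𝒜 ℕ} {G : 𝒜} {ε : A.X 0 ⟶ G} (h : AugExact A ε)

/-- terms of the augmented complex -/
def obj (A : ChainComplex 𝒜 ℕ) (G : 𝒜) : ℕ → 𝒜
  | 0 => G
  | n + 1 => A.X n

/-- differentials of the augmented complex -/
def diff (A : ChainComplex 𝒜 ℕ) {G : 𝒜} (ε : A.X 0 ⟶ G) : ∀ n, obj A G (n + 1) ⟶ obj A G n
  | 0 => ε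
  | n + 1 => A.d (n + 1) n

include h in
lemma diff_comp : ∀ n, diff A ε (n + 1) ≫ diff A ε n = 0
  | 0 => h.w
  | n + 1 => A.d_comp_d (n + 2) (n + 1) n

include h in
lemma diff_exact : ∀ n, (ShortComplex.mk (diff A ε (n + 1)) (diff A ε n) (h.diff_comp n)).Exact
  | 0 => h.exact0
  | n + 1 => (HomologicalComplex.exactAt_iff' A (n + 2) (n + 1) n (by simp) (by simp)).1 (h.exact n)

/-- The resolution attached to an exact augmented complex. -/
noncomputable def res : Res 𝒜 :=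
  Res.ofExact (obj A G) (diff A ε) h.diff_comp h.diff_exact h.epi

variable [HasExt.{w} 𝒜]

/-- `T` is, termwise, the complex `Hom(A, F)`. -/
structure Ident (A : ChainComplex 𝒜 ℕ) (F : 𝒜) (T : CochainComplex AddCommGrpCat.{w} ℕ) where
  α : ∀ n, T.X n ≃+ (A.X n ⟶ F)
  hα : ∀ (n : ℕ) (x : T.X n), α (n + 1) ((T.d n (n + 1)).hom x) = A.d (n + 1) n ≫ α n x

/-- Identification data for the resolution. -/
noncomputable def homIdent {F : 𝒜} {T : CochainComplex AddCommGrpCat.{w} ℕ} (H : Ident A F T) :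
    HomIdent h.res F T where
  α := H.α
  hα n x := by
    refine (H.hα n x).trans ?_
    have e : h.res.p (n + 1) ≫ h.res.i n = A.d (n + 1) n :=
      Res.ofExact_p_i (obj A G) (diff A ε) h.diff_comp h.diff_exact h.epi n
    refine Eq.trans ?_ (Category.assoc (h.res.p (n + 1)) (h.res.i n) (H.α n x))
    exact congrArg (fun t => t ≫ H.α n x) e.symm

/-- Acyclic resolutions compute `Ext`. -/
noncomputable def extIso {F : 𝒜} {T : CochainComplex AddCommGrpCat.{w} ℕ} (H : Ident A F T)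
    (hF : ∀ n q : ℕ, Subsingleton (Ext.{w} (A.X n) F (q + 1))) (n : ℕ) :
    T.homology n ≅ AddCommGrpCat.of (Ext.{w} G F n) :=
  (h.homIdent H).isoExt (fun n q hq x => by
    obtain ⟨q, rfl⟩ : ∃ q', q = q' + 1 := ⟨q - 1, by omega⟩
    have := hF n q
    exact Subsingleton.elim (α := Ext.{w} (A.X n) F (q + 1)) x 0) n

end AugExact

section Simp

variable {𝒜 : Type u} [Category.{v} 𝒜] [Abelian 𝒜] [HasExt.{v} 𝒜]

/-- The identification for the alternating face map complex of a simplicial object. -/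
noncomputable def identHomCx (X : SimplicialObject 𝒜) (F : 𝒜) :
    AugExact.Ident ((AlgebraicTopology.alternatingFaceMapComplex 𝒜).obj X) F (NerveHK.homCx X F) where
  α _ := AddEquiv.refl _
  hα n x := NerveHK.homCx_d X F n x

end Simp

end K297.AugRes
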