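import Groth.Prelude.Def_CohCx
import Groth.Agent.CohtopB.FreeSheafHom
import Groth.Agent.Sga4A.TotAcyc
import Mathlib.CategoryTheory.Sites.SheafOfTypes
import Mathlib.CategoryTheory.Adjunction.Whiskering

/-!
# Vanishing of `Ext` out of free abelian presheaves on covering sieves

* `subsingleton_ext_of_adj`: abstract dimension shifting along `L ⊣ G` with `L` preserving monomorphisms.
* `homR`: maps out of the free abelian sheaf on a presheaf of sets.
* `exists_section`, `section_ext`: the sheaf condition in terms of maps `R.functor ⟶ F`.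
-/

set_option autoImplicit false
universe w v u

open CategoryTheory CategoryTheory.Limits Opposite

namespace K297.SieveExt

open Groth.Agent.Sga4A.TotAcyc

section Abs

variable {A B : Type*} [Category A] [Abelian A] [Category B] [Abelian B] [HasExt A] [HasExt B]
  [EnoughInjectives A]

omit [HasExt A] in
lemma exists_shortExact_injective (F : A) :
    ∃ (S : ShortComplex A), S.ShortExact ∧ S.X₁ = F ∧ Injective S.X₂ :=
  ⟨ShortComplex.mk (Injective.ι F) (cokernel.π (Injective.ι F)) (cokernel.condition _),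
    { exact := ShortComplex.exact_cokernel _ }, rfl, inferInstanceAs (Injective (Injective.under F))⟩

omit [HasExt A] in
/-- Abstract dimension shifting along an adjunction `L ⊣ G` with `L` preserving monomorphisms. -/
theorem subsingleton_ext_of_adj {L : B ⥤ A} {G : A ⥤ B} (adj : L ⊣ G) [L.PreservesMonomorphisms]
    [G.Additive] (X : B) (P : A → Prop)
    (h₃ : ∀ S : ShortComplex A, S.ShortExact → P S.X₁ → Injective S.X₂ → P S.X₃)
    (he : ∀ S : ShortComplex A, S.ShortExact → P S.X₁ → Injective S.X₂ → Epi (G.map S.g))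
    (hl : ∀ S : ShortComplex A, S.ShortExact → P S.X₁ → Injective S.X₂ →
      ∀ b : X ⟶ G.obj S.X₃, ∃ a : X ⟶ G.obj S.X₂, a ≫ G.map S.g = b)
    (q : ℕ) : ∀ (F : A) (_ : P F), Subsingleton (Abelian.Ext X (G.obj F) (q + 1)) := by
  have : G.IsRightAdjoint := adj.isRightAdjoint
  induction q with
  | zero =>
    intro F hF
    obtain ⟨S, hS, rfl, hI⟩ := exists_shortExact_injective F
    have hS' : (S.map G).ShortExact := shortExact_map G hS (he S hS hF hI)
    have hI' : Injective (S.map G).X₂ := Injective.injective_of_adjoint adj _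
    exact subsingleton_ext_one_of_lift hS' X (fun q => hl S hS hF hI q)
  | succ q ih =>
    intro F hF
    obtain ⟨S, hS, rfl, hI⟩ := exists_shortExact_injective F
    have hS' : (S.map G).ShortExact := shortExact_map G hS (he S hS hF hI)
    have hI' : Injective (S.map G).X₂ := Injective.injective_of_adjoint adj _
    exact subsingleton_ext_succ hS' X _ (ih S.X₃ (h₃ S hS hF hI))

end Abs

section HomR

variable {C : Type u} [SmallCategory C]

/-- The free abelian sheaf on a presheaf of sets. -/
noncomputable abbrev ZR (J : GrothendieckTopology C) (R : Cᵒᵖ ⥤ Type u) : Sheaf J AddCommGrpCat.{u} :=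
  (presheafToSheaf J AddCommGrpCat.{u}).obj (R ⋙ AddCommGrpCat.free.{u})

/-- Maps out of the free abelian sheaf on a presheaf of sets. -/
noncomputable def homR {J : GrothendieckTopology C} (R : Cᵒᵖ ⥤ Type u) (P : Sheaf J AddCommGrpCat.{u}) :
    (ZR J R ⟶ P) ≃ (R ⟶ P.obj ⋙ forget AddCommGrpCat.{u}) :=
  ((sheafificationAdjunction J AddCommGrpCat.{u}).homEquiv _ _).trans
    ((AddCommGrpCat.adj.{u}.whiskerRight Cᵒᵖ).homEquiv R P.obj)

lemma homR_comp {J : GrothendieckTopology C} (R : Cᵒᵖ ⥤ Type u) {P Q : Sheaf J AddCommGrpCat.{u}}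
    (f : ZR J R ⟶ P) (g : P ⟶ Q) :
    homR R Q (f ≫ g) = homR R P f ≫ Functor.whiskerRight g.hom (forget AddCommGrpCat.{u}) := by
  simp only [homR, Equiv.trans_apply]
  rw [Adjunction.homEquiv_naturality_right, Adjunction.homEquiv_naturality_right]
  rfl

variable {V : C} {R : Sieve V}

/-- The map `R ⟶ P` attached to a section of `P`. -/
def ofSection (R : Sieve V) (P : Cᵒᵖ ⥤ AddCommGrpCat.{u}) (t : P.obj (op V)) :
    R.functor ⟶ P ⋙ forget AddCommGrpCat.{u} where
  app Y := ↾(fun f => P.map f.1.op t)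
  naturality Y Y' g := by
    ext f
    change P.map (g.unop ≫ f.1).op t = P.map g (P.map f.1.op t)
    rw [op_comp, P.map_comp]
    rfl

lemma ofSection_app (R : Sieve V) (P : Cᵒᵖ ⥤ AddCommGrpCat.{u}) (t : P.obj (op V)) (Y : Cᵒᵖ)
    (f : R.functor.obj Y) : (ofSection R P t).app Y f = P.map f.1.op t := rfl

lemma ofSection_whisker {P Q : Cᵒᵖ ⥤ AddCommGrpCat.{u}} (g : P ⟶ Q) (t : P.obj (op V)) :
    ofSection R P t ≫ Functor.whiskerRight g (forget AddCommGrpCat.{u}) =
      ofSection R Q (g.app (op V) t) := by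
  ext Y f
  change g.app Y (P.map f.1.op t) = Q.map f.1.op (g.app (op V) t)
  exact ConcreteCategory.congr_hom (g.naturality f.1.op) t

lemma isSheafFor {K : GrothendieckTopology C} (F : Sheaf K AddCommGrpCat.{u}) (hR : R ∈ K V) :
    Presieve.IsSheafFor (F.obj ⋙ forget AddCommGrpCat.{u}) R.arrows :=
  ((isSheaf_iff_isSheaf_of_type K _).1 ((sheafCompose K (forget AddCommGrpCat.{u})).obj F).property) R hR

/-- Maps out of a covering sieve into a sheaf are given by sections. -/
lemma exists_section {K : GrothendieckTopology C} (F : Sheaf K AddCommGrpCat.{u}) (hR : R ∈ K V)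
    (φ : R.functor ⟶ F.obj ⋙ forget AddCommGrpCat.{u}) :
    ∃ t : F.obj.obj (op V), ofSection R F.obj t = φ := by
  obtain ⟨t, ht, -⟩ := isSheafFor F hR (fun Y f hf => φ.app (op Y) ⟨f, hf⟩) (by
    refine (Presieve.compatible_iff_sieveCompatible _).2 ?_
    intro Y Z f g hf
    have h := ConcreteCategory.congr_hom (φ.naturality g.op) (⟨f, hf⟩ : R.functor.obj (op Y))
    exact h)
  refine ⟨t, ?_⟩
  ext Y f
  exact ht f.1 f.2

lemma section_ext {K : GrothendieckTopology C} (F : Sheaf K AddCommGrpCat.{u}) (hR : R ∈ K V)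
    (s t : F.obj.obj (op V)) (h : ofSection R F.obj s = ofSection R F.obj t) : s = t := by
  refine (isSheafFor F hR).isSeparatedFor.ext (fun Y f hf => ?_)
  exact congr(($h).app (op Y) ⟨f, hf⟩)

end HomR

end K297.SieveExt
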