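import Groth.Agent.CohtopB.CechOver
import Groth.Agent.CohSite.K297.AugRes
import Groth.Agent.CohSite.K297.SieveExt

/-!
# The Čech resolution of the free abelian presheaf on the sieve generated by a family

For a family `Y i → U` in a category with fibre products, the augmented complex
`⋯ ⟶ ℤ[∐ Y i ×_U Y j] ⟶ ℤ[∐ Y i] ⟶ ℤ[R] ⟶ 0` of abelian presheaves is exact, `R` being the sieve
generated by the family.
-/

set_option autoImplicit false
universe u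

open CategoryTheory CategoryTheory.Limits Opposite Simplicial

namespace K297.CechSieve

open Groth.Agent.CohtopA.CechInj Groth.Agent.CohtopA.CechLES Groth.Agent.CohtopB.CechOver
  K297.AugRes K297.SieveExt

variable {C : Type u} [SmallCategory C] [HasPullbacks C] {U : C} {ι : Type u} (Y : ι → Over U)

/-- The sieve generated by the family. -/
abbrev RS : Sieve U := Sieve.ofArrows (fun i => (Y i).left) (fun i => (Y i).hom)

omit [HasPullbacks C] in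
lemma RS_mem (a : ι) {Z : C} (p : Z ⟶ (Y a).left) : RS Y (p ≫ (Y a).hom) :=
  (Sieve.mem_ofArrows_iff _ _ _).2 ⟨a, p, rfl⟩

omit [HasPullbacks C] in
lemma RS_exists {Z : C} {f : Z ⟶ U} (hf : RS Y f) : ∃ (a : ι) (p : Z ⟶ (Y a).left), f = p ≫ (Y a).hom :=
  (Sieve.mem_ofArrows_iff _ _ _).1 hf

lemma YY_hom {n : ℕ} (i : Fin (n + 1) → ι) : (YY Y i).hom = (Pi.π (Y ∘ i) 0).left ≫ (Y (i 0)).hom :=
  (Over.w (Pi.π (Y ∘ i) 0)).symm

lemma RS_YY {n : ℕ} (i : Fin (n + 1) → ι) : RS Y (YY Y i).hom := by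
  rw [YY_hom]
  exact RS_mem Y _ _

/-- The generating section of `ℤ[R]` over `Z`. -/
noncomputable def rgen (R : Sieve U) {Z : Cᵒᵖ} (f : Z.unop ⟶ U) (hf : R f) :
    (R.functor ⋙ AddCommGrpCat.free.{u}).obj Z :=
  FreeAbelianGroup.of (⟨f, hf⟩ : R.functor.obj Z)

omit [HasPullbacks C] in
lemma map_rgen (R : Sieve U) {Z Z' : Cᵒᵖ} (g : Z ⟶ Z') (f : Z.unop ⟶ U) (hf : R f) :
    (R.functor ⋙ AddCommGrpCat.free.{u}).map g (rgen R f hf) =
      rgen R (g.unop ≫ f) (R.downward_closed hf g.unop) := by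
  exact FreeAbelianGroup.map_of_apply _

omit [HasPullbacks C] in
lemma rgen_congr (R : Sieve U) {Z : Cᵒᵖ} {f f' : Z.unop ⟶ U} (h : f = f') (hf : R f) (hf' : R f') :
    rgen R f hf = rgen R f' hf' := by
  subst h
  rfl

/-- The tautological 0-cochain with values in `ℤ[R]`. -/
noncomputable def e0 : ev ((RS Y).functor ⋙ AddCommGrpCat.free.{u}) (EO Y _⦋0⦌) :=
  (ev_exists ((RS Y).functor ⋙ AddCommGrpCat.free.{u}) (W := EO Y _⦋0⦌)
    (fun i => rgen (RS Y) (Z := op (YY Y i).left) (YY Y i).hom (RS_YY Y i))).choose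

lemma cp_e0 (i : Fin 1 → ι) :
    cp Y ((RS Y).functor ⋙ AddCommGrpCat.free.{u}) i (e0 Y) =
      rgen (RS Y) (Z := op (YY Y i).left) (YY Y i).hom (RS_YY Y i) :=
  (ev_exists ((RS Y).functor ⋙ AddCommGrpCat.free.{u}) (W := EO Y _⦋0⦌)
    (fun i => rgen (RS Y) (Z := op (YY Y i).left) (YY Y i).hom (RS_YY Y i))).choose_spec i

/-- The augmentation. -/
noncomputable def εP : freePre (EO Y _⦋0⦌) ⟶ (RS Y).functor ⋙ AddCommGrpCat.free.{u} :=
  toHom _ _ (e0 Y)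

lemma dFree_εP : dFree (EO Y) 0 ≫ εP Y = 0 := by
  refine (toHom_dEv ((RS Y).functor ⋙ AddCommGrpCat.free.{u}) 0 (e0 Y)).symm.trans ?_
  have h : dEv ((RS Y).functor ⋙ AddCommGrpCat.free.{u}) (EO Y) 0 (e0 Y) = 0 := by
    rw [dEv_zero_apply, sub_eq_zero]
    apply ev_ext
    intro k
    refine (cp_evMap_δ Y ((RS Y).functor ⋙ AddCommGrpCat.free.{u}) 0 _ k).trans
      (Eq.trans ?_ (cp_evMap_δ Y ((RS Y).functor ⋙ AddCommGrpCat.free.{u}) 1 _ k).symm)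
    rw [cp_e0, cp_e0, map_rgen, map_rgen]
    apply rgen_congr
    exact (Over.w (yδ Y 0 k)).trans (Over.w (yδ Y 1 k)).symm
  rw [h, map_zero]

lemma εP_gen (V : Cᵒᵖ) (p : Pt (EO Y _⦋0⦌) V.unop) :
    (εP Y).app V (Groth.Agent.CohtopA.CechInj.gen p) =
      rgen (RS Y) (Z := V) (p.hom ≫ (YY Y (n := 0) p.idx).hom)
        ((RS Y).downward_closed (RS_YY Y _) _) := by
  refine (toHom_app_gen ((RS Y).functor ⋙ AddCommGrpCat.free.{u}) (EO Y _⦋0⦌) (e0 Y) V p).trans ?_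
  refine (congrArg (((RS Y).functor ⋙ AddCommGrpCat.free.{u}).map p.hom.op)
    (cp_e0 Y p.idx)).trans ?_
  exact map_rgen (RS Y) p.hom.op _ _

/-- The section over `Y a` attached to a 0-cochain. -/
noncomputable def sec (P : Cᵒᵖ ⥤ AddCommGrpCat.{u}) (x : ev P (EO Y _⦋0⦌)) (a : ι) :
    P.obj (op (Y a).left) := P.map (ya Y a).left.op (cp Y P (fun _ : Fin 1 => a) x)

lemma compat (P : Cᵒᵖ ⥤ AddCommGrpCat.{u}) (x : ev P (EO Y _⦋0⦌)) (hx : dEv P (EO Y) 0 x = 0)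
    (a b : ι) (Z : C) (p : Z ⟶ (Y a).left) (q : Z ⟶ (Y b).left)
    (hpq : p ≫ (Y a).hom = q ≫ (Y b).hom) : P.map p.op (sec Y P x a) = P.map q.op (sec Y P x b) := by
  rw [dEv_zero_apply, sub_eq_zero] at hx
  let k : Fin 2 → ι := ![a, b]
  let pp : Over.mk (p ≫ (Y a).hom) ⟶ Y a := Over.homMk p rfl
  let qq : Over.mk (p ≫ (Y a).hom) ⟶ Y b := Over.homMk q hpq.symm
  let r : Over.mk (p ≫ (Y a).hom) ⟶ YY Y k := Pi.lift (fun m => match m with
    | 0 => pp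
    | 1 => qq)
  have h := congr(P.map r.left.op (cp Y P k $hx))
  rw [cp_evMap_δ, cp_evMap_δ, map_map, map_map] at h
  have h0 : k ∘ (0 : Fin 2).succAbove = fun _ => b := by
    ext m; fin_cases m; rfl
  have h1 : k ∘ (1 : Fin 2).succAbove = fun _ => a := by
    ext m; fin_cases m; rfl
  have e0 := map_cp_one Y P x h0 (r ≫ yδ Y 0 k) qq (by
    have : r ≫ yδ Y 0 k ≫ Pi.π (Y ∘ (k ∘ (0 : Fin 2).succAbove)) 0 = qq := by
      rw [Pi.lift_π]
      exact Pi.lift_π _ _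
    rw [Category.assoc]
    refine Eq.trans ?_ this
    refine congrArg (fun t => r ≫ t) ?_
    refine congrArg (fun t => yδ Y 0 k ≫ t) ?_
    exact Category.comp_id _)
  have e1 := map_cp_one Y P x h1 (r ≫ yδ Y 1 k) pp (by
    have : r ≫ yδ Y 1 k ≫ Pi.π (Y ∘ (k ∘ (1 : Fin 2).succAbove)) 0 = pp := by
      rw [Pi.lift_π]
      exact Pi.lift_π _ _
    rw [Category.assoc]
    refine Eq.trans ?_ this
    refine congrArg (fun t => r ≫ t) ?_
    refine congrArg (fun t => yδ Y 1 k ≫ t) ?_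
    exact Category.comp_id _)
  have e2 := e1.symm.trans (h.symm.trans e0)
  change P.map p.op (P.map (ya Y a).left.op _) = P.map q.op (P.map (ya Y b).left.op _)
  rw [map_map, map_map]
  exact e2

lemma cp_eq_sec (P : Cᵒᵖ ⥤ AddCommGrpCat.{u}) (x : ev P (EO Y _⦋0⦌)) (a : ι) {Z : C}
    (g : Z ⟶ (YY Y (fun _ : Fin 1 => a)).left) :
    P.map g.op (cp Y P (fun _ : Fin 1 => a) x) =
      P.map (g ≫ (Pi.π (Y ∘ fun _ : Fin 1 => a) 0).left).op (sec Y P x a) := by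
  change _ = P.map (g ≫ (Pi.π (Y ∘ fun _ : Fin 1 => a) 0).left).op (P.map (ya Y a).left.op _)
  rw [map_map]
  have h : (g ≫ (Pi.π (Y ∘ fun _ : Fin 1 => a) 0).left) ≫ (ya Y a).left = g := by
    rw [Category.assoc]
    have : (Pi.π (Y ∘ fun _ : Fin 1 => a) 0).left ≫ (ya Y a).left = 𝟙 _ := by
      rw [← Over.comp_left, π_ya]
      rfl
    rw [this]
    exact Category.comp_id _
  rw [h]

omit [HasPullbacks C] in
/-- Compatible families define maps out of the sieve. -/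
lemma exists_hom_of_compat (P : Cᵒᵖ ⥤ AddCommGrpCat.{u}) (s : ∀ a, P.obj (op (Y a).left))
    (h : ∀ (a b : ι) (Z : C) (p : Z ⟶ (Y a).left) (q : Z ⟶ (Y b).left),
      p ≫ (Y a).hom = q ≫ (Y b).hom → P.map p.op (s a) = P.map q.op (s b)) :
    ∃ φ : (RS Y).functor ⟶ P ⋙ forget AddCommGrpCat.{u}, ∀ (a : ι) (Z : C) (p : Z ⟶ (Y a).left),
      φ.app (op Z) ⟨p ≫ (Y a).hom, RS_mem Y a p⟩ = P.map p.op (s a) := by
  let F : ∀ (Z : Cᵒᵖ), (RS Y).functor.obj Z → P.obj Z := fun Z f =>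
    P.map (RS_exists Y f.2).choose_spec.choose.op (s (RS_exists Y f.2).choose)
  have hF : ∀ (Z : Cᵒᵖ) (f : (RS Y).functor.obj Z) (a : ι) (p : Z.unop ⟶ (Y a).left)
      (_ : f.1 = p ≫ (Y a).hom), F Z f = P.map p.op (s a) := by
    intro Z f a p hp
    refine h _ _ _ _ _ ?_
    rw [← hp]
    exact (RS_exists Y f.2).choose_spec.choose_spec.symm
  refine ⟨{ app := fun Z => ↾(F Z), naturality := ?_ }, ?_⟩
  · intro Z Z' g
    ext f
    obtain ⟨a, p, hp⟩ := RS_exists Y f.2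
    change F Z' ((RS Y).functor.map g f) = P.map g (F Z f)
    rw [hF Z f a p hp, hF Z' ((RS Y).functor.map g f) a (g.unop ≫ p) (by
      change g.unop ≫ f.1 = _
      rw [hp, Category.assoc])]
    rw [op_comp, P.map_comp]
    rfl
  · intro a Z p
    exact hF (op Z) _ a p rfl

/-- Extension of a map of presheaves of sets to the free abelian presheaf. -/
noncomputable def extP {R : Sieve U} {P : Cᵒᵖ ⥤ AddCommGrpCat.{u}}
    (φ : R.functor ⟶ P ⋙ forget AddCommGrpCat.{u}) : R.functor ⋙ AddCommGrpCat.free.{u} ⟶ P :=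
  ((AddCommGrpCat.adj.{u}.whiskerRight Cᵒᵖ).homEquiv _ _).symm φ

omit [HasPullbacks C] in
lemma extP_rgen {R : Sieve U} {P : Cᵒᵖ ⥤ AddCommGrpCat.{u}}
    (φ : R.functor ⟶ P ⋙ forget AddCommGrpCat.{u}) (Z : Cᵒᵖ) (f : Z.unop ⟶ U) (hf : R f) :
    (extP φ).app Z (rgen R f hf) = φ.app Z ⟨f, hf⟩ := by
  have h : ((AddCommGrpCat.adj.{u}.whiskerRight Cᵒᵖ).homEquiv _ _) (extP φ) = φ :=
    Equiv.apply_symm_apply _ _
  conv_rhs => rw [← h]
  rfl

omit [HasPullbacks C] in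
lemma hom_ext_rgen {R : Sieve U} {P : Cᵒᵖ ⥤ AddCommGrpCat.{u}}
    {x y : R.functor ⋙ AddCommGrpCat.free.{u} ⟶ P}
    (h : ∀ (Z : Cᵒᵖ) (f : Z.unop ⟶ U) (hf : R f), x.app Z (rgen R f hf) = y.app Z (rgen R f hf)) :
    x = y := by
  apply ((AddCommGrpCat.adj.{u}.whiskerRight Cᵒᵖ).homEquiv _ _).injective
  ext Z f
  exact h Z f.1 f.2

lemma epi_εP : Epi (εP Y) := by
  constructor
  intro P x y hxy
  apply hom_ext_rgen
  intro Z f hf
  obtain ⟨a, p, rfl⟩ := RS_exists Y hf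
  have h1 := congr(($hxy).app Z (Groth.Agent.CohtopA.CechInj.gen
    (Pt.mk (W := EO Y _⦋0⦌) (fun _ : Fin 1 => a) (p ≫ (ya Y a).left))))
  have h2 : (εP Y).app Z (Groth.Agent.CohtopA.CechInj.gen
      (Pt.mk (W := EO Y _⦋0⦌) (fun _ : Fin 1 => a) (p ≫ (ya Y a).left))) =
      rgen (RS Y) (p ≫ (Y a).hom) hf := by
    rw [εP_gen]
    apply rgen_congr
    have h3 : (Pt.mk (W := EO Y _⦋0⦌) (fun _ : Fin 1 => a) (p ≫ (ya Y a).left)).hom =
      p ≫ (ya Y a).left := Pt.mk_hom _ _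
    have h4 : (ya Y a).left ≫ (YY Y (fun _ : Fin 1 => a)).hom = (Y a).hom := Over.w (ya Y a)
    refine (congrArg (fun t => t ≫ (YY Y (fun _ : Fin 1 => a)).hom) h3).trans ?_
    rw [Category.assoc, h4]
  have h5 : x.app Z ((εP Y).app Z (Groth.Agent.CohtopA.CechInj.gen
      (Pt.mk (W := EO Y _⦋0⦌) (fun _ : Fin 1 => a) (p ≫ (ya Y a).left)))) =
      y.app Z ((εP Y).app Z (Groth.Agent.CohtopA.CechInj.gen
      (Pt.mk (W := EO Y _⦋0⦌) (fun _ : Fin 1 => a) (p ≫ (ya Y a).left)))) := h1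
  rw [h2] at h5
  exact h5

lemma exact_εP : (ShortComplex.mk (dFree (EO Y) 0) (εP Y) (dFree_εP Y)).Exact := by
  refine exact_of_desc _ _ _ (fun P x hx => ?_)
  obtain ⟨x, rfl⟩ := (toHom_bijective P _).2 x
  have hx0 : dEv P (EO Y) 0 x = 0 := by
    apply (toHom_bijective P _).1
    rw [toHom_dEv, map_zero]
    exact hx
  obtain ⟨φ, hφ⟩ := exists_hom_of_compat Y P (sec Y P x) (compat Y P x hx0)
  refine ⟨extP φ, ?_⟩
  apply freePre_hom_ext
  intro V p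
  rw [toHom_app_gen]
  change (extP φ).app V ((εP Y).app V (Groth.Agent.CohtopA.CechInj.gen p)) = _
  rw [εP_gen]
  refine (extP_rgen φ V _ _).trans ?_
  induction p using Pt.rec' with
  | h i g =>
  obtain ⟨a, rfl⟩ : ∃ a, i = fun _ => a :=
      ⟨(show Fin 1 → ι from i) 0, funext fun m => congrArg (show Fin 1 → ι from i)
        ((inferInstance : Subsingleton (Fin 1)).elim _ _)⟩
  have h3 : (Pt.mk (W := EO Y _⦋0⦌) (fun _ : Fin 1 => a) g).hom = g := Pt.mk_hom _ _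
  have h4 : (Pt.mk (W := EO Y _⦋0⦌) (fun _ : Fin 1 => a) g).hom ≫
      (YY Y (fun _ : Fin 1 => a)).hom = (g ≫ (Pi.π (Y ∘ fun _ : Fin 1 => a) 0).left) ≫ (Y a).hom := by
    refine (congrArg (fun t => t ≫ (YY Y (fun _ : Fin 1 => a)).hom) h3).trans ?_
    refine Eq.trans ?_ (Category.assoc g (Pi.π (Y ∘ fun _ : Fin 1 => a) 0).left (Y a).hom).symm
    exact congrArg (fun t => g ≫ t) (YY_hom Y (fun _ : Fin 1 => a))
  have h5 : ∀ (f : V.unop ⟶ U) (hf : RS Y f) (h : f = (g ≫ (Pi.π (Y ∘ fun _ : Fin 1 => a) 0).left) ≫ (Y a).hom),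
      φ.app V ⟨f, hf⟩ = P.map (g ≫ (Pi.π (Y ∘ fun _ : Fin 1 => a) 0).left).op (sec Y P x a) := by
    intro f hf h
    subst h
    exact hφ a V.unop _
  refine (h5 _ _ h4).trans ?_
  refine (cp_eq_sec Y P x a g).symm.trans ?_
  exact congrArg (fun (t : V.unop ⟶ (YY Y (fun _ : Fin 1 => a)).left) =>
    P.map t.op (cp Y P (fun _ : Fin 1 => a) x)) h3.symm

end K297.CechSieve
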