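import Groth.Agent.CohSite.K297.CechSieve
import Mathlib.CategoryTheory.Adjunction.Additive
import Mathlib.Algebra.Homology.DerivedCategory.Ext.EnoughProjectives

/-!
# Čech cohomology of a presheaf is cohomology of the generated sieve

`cechIso`: for a presheaf `M` of abelian groups and a family `Y` of objects over `U` generating the
sieve `R`, `Ȟ^q(Y, M) ≅ Ext^q(ℤ[R], M)` in the category of presheaves (sheaves for the trivial
topology).
-/

set_option autoImplicit false
universe u

open CategoryTheory CategoryTheory.Limits CategoryTheory.Abelian Opposite Simplicial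

namespace K297.CechSieve

open Groth.Agent.CohtopA.CechInj Groth.Agent.CohtopA.CechLES Groth.Agent.CohtopB.CechOver
  K297.AugRes K297.SieveExt Groth.Agent.Ega3B.CechNatAbs

variable {C : Type u} [SmallCategory C] [HasPullbacks C] {U : C} {ι : Type u} (Y : ι → Over U)
  (J : GrothendieckTopology C)

lemma exact_dFree (n : ℕ) : (ShortComplex.mk (dFree (EO Y) (n + 1)) (dFree (EO Y) n)
    (dFree_comp (EO Y) n)).Exact :=
  freeSC_exact (E := EO Y)
    (fun _ => ⟨ptDegenOver _ (fun s => (nonempty_ptDegenCech (FormalCoproduct.mk _ Y) (Over.mk s)).some)⟩) n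

/-- Terms of the augmented resolution. -/
noncomputable def KK : ℕ → (Cᵒᵖ ⥤ AddCommGrpCat.{u})
  | 0 => (RS Y).functor ⋙ AddCommGrpCat.free.{u}
  | n + 1 => freePre (EO Y _⦋n⦌)

/-- Differentials of the augmented resolution. -/
noncomputable def dd : ∀ n, KK Y (n + 1) ⟶ KK Y n
  | 0 => εP Y
  | n + 1 => dFree (EO Y) n

lemma dd_comp : ∀ n, dd Y (n + 1) ≫ dd Y n = 0
  | 0 => dFree_εP Y
  | n + 1 => dFree_comp (EO Y) n

lemma dd_exact : ∀ n, (ShortComplex.mk (dd Y (n + 1)) (dd Y n) (dd_comp Y n)).Exact
  | 0 => exact_εP Y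
  | n + 1 => exact_dFree Y n

/-- The Čech resolution of `ℤ[R]` by free abelian sheaves. -/
noncomputable def res : Res (Sheaf J AddCommGrpCat.{u}) :=
  Res.ofExact (fun n => (presheafToSheaf J AddCommGrpCat.{u}).obj (KK Y n))
    (fun n => (presheafToSheaf J AddCommGrpCat.{u}).map (dd Y n))
    (fun n => by rw [← Functor.map_comp, dd_comp, Functor.map_zero])
    (fun n => (dd_exact Y n).map (presheafToSheaf J AddCommGrpCat.{u}))
    (by
      have : Epi (dd Y 0) := epi_εP Y
      infer_instance)

/-- The identification of cochains with maps out of the resolution. -/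
noncomputable def alpha (M : Sheaf J AddCommGrpCat.{u}) (n : ℕ) :
    ev M.obj (EO Y _⦋n⦌) ≃+ ((presheafToSheaf J AddCommGrpCat.{u}).obj (freePre (EO Y _⦋n⦌)) ⟶ M) :=
  (AddEquiv.ofBijective (toHom M.obj (EO Y _⦋n⦌)) (toHom_bijective M.obj _)).trans
    ((sheafificationAdjunction J AddCommGrpCat.{u}).homAddEquiv _ M).symm

lemma alpha_d (M : Sheaf J AddCommGrpCat.{u}) (n : ℕ) (x : ev M.obj (EO Y _⦋n⦌)) :
    alpha Y J M (n + 1) (dEv M.obj (EO Y) n x) =
      (presheafToSheaf J AddCommGrpCat.{u}).map (dFree (EO Y) n) ≫ alpha Y J M n x := by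
  change ((sheafificationAdjunction J AddCommGrpCat.{u}).homEquiv _ M).symm
    (toHom M.obj _ (dEv M.obj (EO Y) n x)) = _ ≫ ((sheafificationAdjunction J AddCommGrpCat.{u}).homEquiv _ M).symm
    (toHom M.obj _ x)
  rw [toHom_dEv]
  exact Adjunction.homEquiv_naturality_left_symm _ _ _

/-- Identification data. -/
noncomputable def ident (M : Sheaf J AddCommGrpCat.{u}) :
    HomIdent (res Y J) M ((cechComplexFunctor Y).obj ((Over.forget U).op ⋙ M.obj)) where
  α n := alpha Y J M n
  hα n x := by
    have h1 : (((cechComplexFunctor Y).obj ((Over.forget U).op ⋙ M.obj)).d n (n + 1)).hom x =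
        dEv M.obj (EO Y) n x := by
      have := cochain_d (E := EO Y) M.obj n
      exact congrArg (fun t => t.hom x) this
    refine (congrArg (alpha Y J M (n + 1)) h1).trans ?_
    refine (alpha_d Y J M n x).trans ?_
    have e : (res Y J).p (n + 1) ≫ (res Y J).i n =
        (presheafToSheaf J AddCommGrpCat.{u}).map (dd Y (n + 1)) :=
      Res.ofExact_p_i (fun n => (presheafToSheaf J AddCommGrpCat.{u}).obj (KK Y n))
        (fun n => (presheafToSheaf J AddCommGrpCat.{u}).map (dd Y n)) _ _ _ n
    refine Eq.trans ?_ (Category.assoc ((res Y J).p (n + 1)) ((res Y J).i n) (alpha Y J M n x))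
    exact congrArg (fun t => t ≫ alpha Y J M n x) e.symm

/-- For a sheaf acyclic on the terms of the Čech resolution, Čech cohomology is the cohomology of the
sheaf associated to the sieve. -/
noncomputable def cechIsoOfAcyclic (M : Sheaf J AddCommGrpCat.{u})
    (h : ∀ n q : ℕ, Subsingleton (Ext ((presheafToSheaf J AddCommGrpCat.{u}).obj (freePre (EO Y _⦋n⦌)))
      M (q + 1))) (p : ℕ) :
    CohCx.cechH M.obj Y p ≅ AddCommGrpCat.of (Ext (ZR J (RS Y).functor) M p) :=
  (ident Y J M).isoExt (fun n q hq x => by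
    obtain ⟨q, rfl⟩ : ∃ q', q = q' + 1 := ⟨q - 1, by omega⟩
    have := h n q
    exact Subsingleton.elim (α := Ext ((presheafToSheaf J AddCommGrpCat.{u}).obj (freePre (EO Y _⦋n⦌)))
      M (q + 1)) x 0) p

omit [HasPullbacks C] in
/-- Free presheaves on formal coproducts are projective. -/
lemma projective_freePre (W : FormalCoproduct.{u} C) :
    Projective ((presheafToSheaf (⊥ : GrothendieckTopology C) AddCommGrpCat.{u}).obj (freePre W)) where
  factors {E X} f e he := by
    have he' : Epi ((sheafToPresheaf (⊥ : GrothendieckTopology C) AddCommGrpCat.{u}).map e) := by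
      have : (sheafToPresheaf (⊥ : GrothendieckTopology C) AddCommGrpCat.{u}).IsEquivalence :=
        (sheafBotEquivalence (C := C) AddCommGrpCat.{u}).isEquivalence_functor
      infer_instance
    obtain ⟨x, hx⟩ := (toHom_bijective X.obj W).2
      (((sheafificationAdjunction (⊥ : GrothendieckTopology C) AddCommGrpCat.{u}).homEquiv _ _) f)
    have hs : ∀ i : W.I, Function.Surjective (e.hom.app (op (W.obj i))) := by
      intro i
      have : Epi (e.hom.app (op (W.obj i))) := by
        have := (NatTrans.epi_iff_epi_app ((sheafToPresheaf (⊥ : GrothendieckTopology C)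
          AddCommGrpCat.{u}).map e)).1 he' (op (W.obj i))
        exact this
      exact (AddCommGrpCat.epi_iff_surjective _).1 this
    choose z hz using fun i : W.I => hs i (comp X.obj W i x)
    obtain ⟨y, hy⟩ := ev_exists E.obj (W := W) z
    refine ⟨((sheafificationAdjunction (⊥ : GrothendieckTopology C) AddCommGrpCat.{u}).homEquiv _ _).symm
      (toHom E.obj W y), ?_⟩
    apply ((sheafificationAdjunction (⊥ : GrothendieckTopology C) AddCommGrpCat.{u}).homEquiv _ _).injective
    rw [Adjunction.homEquiv_naturality_right, Equiv.apply_symm_apply, ← hx]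
    apply freePre_hom_ext
    intro V p
    rw [toHom_app_gen]
    change e.hom.app V ((toHom E.obj W y).app V (Groth.Agent.CohtopA.CechInj.gen p)) = _
    rw [toHom_app_gen, hy]
    refine (ConcreteCategory.congr_hom (e.hom.naturality p.hom.op) (z p.idx)).trans ?_
    exact congrArg (X.obj.map p.hom.op) (hz p.idx)

/-- Čech cohomology of a presheaf is the cohomology of the generated sieve. -/
noncomputable def cechIso (M : Cᵒᵖ ⥤ AddCommGrpCat.{u}) (q : ℕ) :
    CohCx.cechH M Y q ≅ AddCommGrpCat.of (CohCx.HK (J := (⊥ : GrothendieckTopology C))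
      ⟨(RS Y).functor, Presheaf.isSheaf_bot _⟩ ⟨M, Presheaf.isSheaf_bot _⟩ q) :=
  cechIsoOfAcyclic Y ⊥ ⟨M, Presheaf.isSheaf_bot _⟩ (fun n q => by
    have := projective_freePre (EO Y _⦋n⦌)
    exact Ext.subsingleton_of_projective _ _ q) q

end K297.CechSieve
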