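import Groth.Agent.CohSite.K297.SieveExt2
import Groth.Agent.S12448

/-!
# Direct images of sheaves acyclic on objects

`subsingleton_HU_push`: if `H^{q+1}(U, F) = 0` for all objects of `C` then `H^{q+1}(V, u_* F) = 0`
for all objects `V` of `D`.
-/

set_option autoImplicit false
universe u

open CategoryTheory CategoryTheory.Limits Opposite

namespace K297.PushAcyc

open K297.SieveExt K297.SieveExt2

theorem subsingleton_HU_push {C D : Type u} [SmallCategory C] [SmallCategory D]
    (J : GrothendieckTopology C) (K : GrothendieckTopology D) (u : D ⥤ C) [u.IsContinuous K J]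
    [hu : PreservesFiniteLimits (u.sheafPullback (Type u) K J)] (F : Sheaf J AddCommGrpCat.{u})
    (hF : ∀ (V : D) (q : ℕ), Subsingleton (CohSite.HU F (q + 1) (u.obj V))) (V : D) (q : ℕ) :
    Subsingleton (CohSite.HU ((CohSite.push J K u).obj F) (q + 1) V) := by
  have h1 : PreservesFiniteLimits (u.sheafPullback AddCommGrpCat.{u} K J) :=
    Groth.Agent.S12448.result J K u hu
  have h2 : ((sheafToPresheaf (⊥ : GrothendieckTopology D) AddCommGrpCat.{u} ⋙
      presheafToSheaf K AddCommGrpCat.{u}) ⋙
        u.sheafPullback AddCommGrpCat.{u} K J).PreservesMonomorphisms := by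
    have : (u.sheafPullback AddCommGrpCat.{u} K J).PreservesMonomorphisms :=
      preservesMonomorphisms_of_preservesLimitsOfShape _
    infer_instance
  refine subsingleton_HU_of_sieve q _ ?_ V
  intro X R hR q
  exact subsingleton_ext_sieve J K u (adjGB J K u) F hF hR q

end K297.PushAcyc
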