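import Groth.Agent.CohtopA.RpushSheafify
import Groth.Agent.CohtopB.FreeSheafHom
import Groth.Prelude.Def_CohCx

/-!
# Derived functors of `Hom(Z, -)` and of sections

* `rdHomIso Z Y n : R^n Hom(Z, -) (Y) ≅ Ext^n(Z, Y)`;
* `secF V`: sections over `V`, `rdSecIso : R^n Γ(V, -) (F) ≅ H^n(V, F)`.
-/

set_option autoImplicit false
universe v u

open CategoryTheory CategoryTheory.Limits CategoryTheory.Abelian Opposite

namespace K297.RDHom

open Groth.Agent.CohtopA.ExtRes Groth.Agent.CohtopA.RDComp Groth.Agent.CohtopB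

section

variable {A : Type u} [Category.{v} A] [Abelian A] [HasExt.{v} A] [EnoughInjectives A] (Z : A)

/-- `Hom(Z, -)`. -/
noncomputable abbrev homF : A ⥤ AddCommGrpCat.{v} := preadditiveCoyoneda.obj (op Z)

/-- `Hom(Z, -)` as the value of a presheaf. -/
noncomputable def homFIso : homF Z ≅ homPsh ((Functor.const (Discrete PUnit.{1})).obj Z) ⋙
    (evaluation _ _).obj (op ⟨PUnit.unit⟩) :=
  NatIso.ofComponents (fun Y => Iso.refl _) (fun f => by
    ext x
    rfl)

instance (D : Type*) [Category* D] (X : D) :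
    ((evaluation D AddCommGrpCat.{v}).obj X).PreservesHomology := inferInstance

/-- `R^n Hom(Z, -) ≅ Ext^n(Z, -)`. -/
noncomputable def rdHomIso (Y : A) (n : ℕ) :
    ((homF Z).rightDerived n).obj Y ≅ AddCommGrpCat.of (Ext.{v} Z Y n) :=
  (rightDerivedCongr (homFIso Z) n ≪≫
    rightDerivedCompIso (homPsh ((Functor.const (Discrete PUnit.{1})).obj Z)) _ n ≪≫
    Functor.isoWhiskerRight (rightDerivedIso ((Functor.const (Discrete PUnit.{1})).obj Z) n) _).app Y

end

section

variable {C : Type u} [SmallCategory C] (J : GrothendieckTopology C) (V : C)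

/-- Sections over `V`. -/
noncomputable abbrev secF : Sheaf J AddCommGrpCat.{u} ⥤ AddCommGrpCat.{u} :=
  sheafToPresheaf J AddCommGrpCat.{u} ⋙ (evaluation _ _).obj (op V)

/-- Sections over `V` are maps out of the free sheaf. -/
noncomputable def secFIso : secF J V ≅ homF (CohCx.freeSheaf J V) :=
  NatIso.ofComponents (fun F => (FreeSheafHom.homEquivSections V F).symm.toAddCommGrpIso)
    (fun {F G} φ => by
      ext x
      apply (FreeSheafHom.homEquivSections V G).injective
      change (FreeSheafHom.homEquivSections V G) ((FreeSheafHom.homEquivSections V G).symm _) =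
        (FreeSheafHom.homEquivSections V G) ((FreeSheafHom.homEquivSections V F).symm x ≫ φ)
      rw [AddEquiv.apply_symm_apply]
      have h : (FreeSheafHom.homEquivSections V G) ((FreeSheafHom.homEquivSections V F).symm x ≫ φ) =
        (φ.hom.app (op V)).hom ((FreeSheafHom.homEquivSections V F) ((FreeSheafHom.homEquivSections V F).symm x)) :=
        rfl
      rw [h, AddEquiv.apply_symm_apply]
      rfl)

instance : (secF J V).Additive where

/-- `R^n Γ(V, -) (F) ≅ H^n(V, F)`. -/
noncomputable def rdSecIso (F : Sheaf J AddCommGrpCat.{u}) (n : ℕ) :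
    ((secF J V).rightDerived n).obj F ≅ AddCommGrpCat.of (CohSite.HU F n V) :=
  (rightDerivedCongr (secFIso J V) n).app F ≪≫ rdHomIso (CohCx.freeSheaf J V) F n

end

end K297.RDHom
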