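import Groth.Agent.S11918
import Groth.Agent.EtDesc.K224.SpAbut
import Groth.Agent.CohSite.K297.RDHom
import Groth.Agent.CohSite.K297.PushAcyc

/-!
# Leray spectral sequences (existence form) from the Grothendieck spectral sequence

* `exists_ss`: the Grothendieck spectral sequence with terms and abutment replaced by isomorphic ones.
* `leray`, `relLeray`.
-/

set_option autoImplicit false
universe v u

open CategoryTheory CategoryTheory.Limits CategoryTheory.Abelian Opposite

namespace K297.LeraySS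

open Groth.Agent.CohtopA.ExtRes Groth.Agent.CohtopA.RDComp Groth.Agent.CohtopB K297.RDHom

/-- The Grothendieck spectral sequence, up to isomorphism. -/
theorem exists_ss {C C' C'' : Type u} [Category.{v} C] [Category.{v} C'] [Category.{v} C'']
    [Abelian C] [Abelian C'] [Abelian C''] [HasInjectiveResolutions C] [HasInjectiveResolutions C']
    (T : C ⥤ C') [T.Additive] (S : C' ⥤ C'') [S.Additive] [PreservesFiniteLimits S]
    (hT : ∀ Q : C, Injective Q → ∀ q : ℕ, 0 < q → IsZero ((S.rightDerived q).obj (T.obj Q))) (A : C)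
    (H : ℕ → C'') (hH : ∀ n, Nonempty (((T ⋙ S).rightDerived n).obj A ≅ H n))
    (X : ℕ → ℕ → C'') (hX : ∀ p q, Nonempty ((S.rightDerived p).obj ((T.rightDerived q).obj A) ≅ X p q))
    (Z Z' : C'') (hZ : IsZero Z) (hZ' : IsZero Z') :
    ∃ (E : E₂CohomologicalSpectralSequence C'')
      (a : SpSeq.Abutment E (fun n : ℤ => if 0 ≤ n then H n.toNat else Z)),
      (∀ n, a.IsFinite n) ∧ SpSeq.IsBounded E ∧
      ∀ p q : ℤ, Nonempty ((E.page 2 le_rfl).X (p, q) ≅
        (if 0 ≤ p ∧ 0 ≤ q then X p.toNat q.toNat else Z')) := by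
  obtain ⟨E, a, ha, hb, hE⟩ := Groth.Agent.S11918.result T S hT A
  obtain ⟨a', ha'⟩ := K224.SpAbut.exists_abutment_iso
    (H' := fun n : ℤ => if 0 ≤ n then H n.toNat else Z) a ha (fun n => by
      by_cases hn : 0 ≤ n
      · simp only [if_pos hn]
        exact hH n.toNat
      · simp only [if_neg hn]
        exact ⟨IsZero.iso (isZero_zero _) hZ⟩)
  refine ⟨E, a', ha', hb, fun p q => ?_⟩
  obtain ⟨e⟩ := hE p q
  by_cases hpq : 0 ≤ p ∧ 0 ≤ q
  · rw [if_pos hpq] at e ⊢
    obtain ⟨e'⟩ := hX p.toNat q.toNat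
    exact ⟨e ≪≫ e'⟩
  · rw [if_neg hpq] at e ⊢
    exact ⟨e ≪≫ IsZero.iso (isZero_zero _) hZ'⟩

section Leray

variable {C D B : Type u} [SmallCategory C] [SmallCategory D] [SmallCategory B]
    (J : GrothendieckTopology C) (K : GrothendieckTopology D) (L : GrothendieckTopology B)

lemma isZero_punit : IsZero (AddCommGrpCat.of PUnit.{u + 1}) :=
  AddCommGrpCat.isZero_of_subsingleton _

/-- Direct images of injectives are acyclic on objects. -/
lemma subsingleton_push_injective (u : D ⥤ C) [u.IsContinuous K J]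
    [PreservesFiniteLimits (u.sheafPullback (Type u) K J)] (Q : Sheaf J AddCommGrpCat.{u}) (hQ : Injective Q)
    (V : D) (q : ℕ) (hq : 0 < q) : Subsingleton (CohSite.HU ((CohSite.push J K u).obj Q) q V) := by
  obtain ⟨q, rfl⟩ : ∃ q', q = q' + 1 := ⟨q - 1, by omega⟩
  exact K297.PushAcyc.subsingleton_HU_push J K u Q
    (fun V q => Ext.subsingleton_of_injective (CohCx.freeSheaf J (u.obj V)) Q q) V q

theorem leray (u : D ⥤ C) [u.IsContinuous K J]
    [PreservesFiniteLimits (u.sheafPullback (Type u) K J)] (M : Sheaf J AddCommGrpCat.{u}) (V : D) :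
    ∃ (E : E₂CohomologicalSpectralSequence AddCommGrpCat.{u})
      (a : SpSeq.Abutment E (fun n : ℤ =>
        if 0 ≤ n then AddCommGrpCat.of (CohSite.HU M n.toNat (u.obj V)) else AddCommGrpCat.of PUnit.{u + 1})),
      (∀ n, a.IsFinite n) ∧ SpSeq.IsBounded E ∧
      ∀ p q : ℤ, Nonempty ((E.page 2 le_rfl).X (p, q) ≅
        (if 0 ≤ p ∧ 0 ≤ q then AddCommGrpCat.of (CohSite.HU ((CohSite.Rpush J K u q.toNat).obj M) p.toNat V)
         else AddCommGrpCat.of PUnit.{u + 1})) := by
  refine exists_ss (CohSite.push J K u) (secF K V) (fun Q hQ q hq => ?_) M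
    (fun n => AddCommGrpCat.of (CohSite.HU M n (u.obj V))) (fun n => ?_)
    (fun p q => AddCommGrpCat.of (CohSite.HU ((CohSite.Rpush J K u q).obj M) p V)) (fun p q => ?_)
    _ _ isZero_punit isZero_punit
  · have := subsingleton_push_injective J K u Q hQ V q hq
    exact IsZero.of_iso (AddCommGrpCat.isZero_of_subsingleton _) (rdSecIso K V _ q)
  · exact ⟨rdSecIso J (u.obj V) M n⟩
  · exact ⟨rdSecIso K V _ p⟩

theorem relLeray (u : D ⥤ C) [u.IsContinuous K J]
    [PreservesFiniteLimits (u.sheafPullback (Type u) K J)]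
    (w : B ⥤ D) [w.IsContinuous L K]
    [(w ⋙ u).IsContinuous L J] (M : Sheaf J AddCommGrpCat.{u}) (Z Z' : Sheaf L AddCommGrpCat.{u})
    (hZ : IsZero Z) (hZ' : IsZero Z') :
    ∃ (E : E₂CohomologicalSpectralSequence (Sheaf L AddCommGrpCat.{u}))
      (a : SpSeq.Abutment E (fun n : ℤ =>
        if 0 ≤ n then (CohSite.Rpush J L (w ⋙ u) n.toNat).obj M else Z)),
      (∀ n, a.IsFinite n) ∧ SpSeq.IsBounded E ∧
      ∀ p q : ℤ, Nonempty ((E.page 2 le_rfl).X (p, q) ≅
        (if 0 ≤ p ∧ 0 ≤ q then (CohSite.Rpush K L w p.toNat).obj ((CohSite.Rpush J K u q.toNat).obj M) else Z')) := by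
  have : PreservesFiniteLimits (CohSite.push K L w) := by
    have : PreservesLimitsOfSize.{0, 0} (CohSite.push K L w) :=
      (w.sheafAdjunctionContinuous AddCommGrpCat.{u} L K).rightAdjoint_preservesLimits
    exact PreservesLimitsOfSize.preservesFiniteLimits _
  refine exists_ss (CohSite.push J K u) (CohSite.push K L w) (fun Q hQ q hq => ?_) M
    (fun n => (CohSite.Rpush J L (w ⋙ u) n).obj M) (fun n => ?_)
    (fun p q => (CohSite.Rpush K L w p).obj ((CohSite.Rpush J K u q).obj M)) (fun p q => ⟨Iso.refl _⟩)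
    _ _ hZ hZ'
  · refine IsZero.of_iso ?_ (Groth.Agent.CohtopA.RpushSheafify.rpushObjIso K L w
      ((CohSite.push J K u).obj Q) q)
    refine (presheafToSheaf L AddCommGrpCat.{u}).map_isZero ?_
    rw [Functor.isZero_iff]
    intro V
    have : Subsingleton ((w.op ⋙ ((CohSite.push J K u).obj Q).cohomologyPresheaf q).obj V) :=
      subsingleton_push_injective J K u Q hQ (w.obj V.unop) q hq
    exact AddCommGrpCat.isZero_of_subsingleton _
  · have e : CohSite.push J K u ⋙ CohSite.push K L w ≅ CohSite.push J L (w ⋙ u) := Iso.refl _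
    exact ⟨(rightDerivedCongr e n).app M⟩

end Leray

end K297.LeraySS
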