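import Groth.Agent.CohSite.K297.AugRes

/-!
# The free resolution attached to an epimorphism of sheaves of sets

`augExact_nerve`: for an epimorphism `K' ⟶ K` of sheaves of sets the complex
`⋯ ⟶ ℤ[K' ×_K K'] ⟶ ℤ[K'] ⟶ ℤ[K] ⟶ 0` of abelian sheaves is exact.
-/

set_option autoImplicit false
universe u

open CategoryTheory CategoryTheory.Limits CategoryTheory.Abelian Opposite Simplicial

namespace K297.NerveRes

open Groth.Agent.CohtopB.NerveHK K297.AugRes

variable {C : Type u} [SmallCategory C] (J : GrothendieckTopology C)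

theorem augExact_nerve {K' K : Sheaf J (Type u)} (f : K' ⟶ K) [Epi f] :
    AugExact ((AlgebraicTopology.alternatingFaceMapComplex (Sheaf J AddCommGrpCat.{u})).obj
      ((Arrow.mk f).cechNerve ⋙ ZSh J)) ((ZSh J).map (nBase (Arrow.mk f) 0)) where
  w := d_comp_base (Arrow.mk f) (ZSh J)
  exact0 := by
    have : EffectiveEpi (Arrow.mk f).hom := effectiveEpi_of_epi J f
    exact exact_of_desc _ _ _ (fun F x hx => exists_desc_d (Arrow.mk f) (ZSh J) x hx)
  epi := by
    have : Epi (Arrow.mk f).hom := inferInstanceAs (Epi f)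
    exact epi_map_base (Arrow.mk f) (ZSh J)
  exact n := exactAt_ZSh J (Arrow.mk f) n

/-- The Čech complex of a sheaf `F` acyclic on the terms of the nerve computes `H^n(K, F)`. -/
noncomputable def cechNerveIso {K' K : Sheaf J (Type u)} (f : K' ⟶ K) [Epi f]
    (F : Sheaf J AddCommGrpCat.{u})
    (hF : ∀ n q : ℕ, Subsingleton (CohCx.HK ((Arrow.mk f).cechNerve.obj (op ⦋n⦌)) F (q + 1))) (n : ℕ) :
    (CohCx.cechNerveCx F f).homology n ≅ AddCommGrpCat.of (CohCx.HK K F n) :=
  (augExact_nerve J f).extIso (identHomCx ((Arrow.mk f).cechNerve ⋙ ZSh J) F) hF n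

end K297.NerveRes
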