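import Groth.Agent.CohSite.K297.SieveExt
import Mathlib.CategoryTheory.Sites.Pullback

/-!
# Acyclic sheaves and cohomology of covering sieves in presheaves

* `GB J u`: `F ↦ F ∘ u` from abelian sheaves on `C` to abelian presheaves on `D` (sheaves for the
  trivial topology), `adjGB` its left adjoint.
* `subsingleton_ext_sieve`: if `H^{q+1}(u V, F) = 0` for all `V` then `H^{q+1}(R, F ∘ u) = 0` for all
  covering sieves `R`.
* `subsingleton_HU_of_sieve`: if `H^{q+1}(R, F) = 0` for all covering sieves then `H^{q+1}(X, F) = 0`.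
-/

set_option autoImplicit false
universe w v u

open CategoryTheory CategoryTheory.Limits Opposite

namespace K297.SieveExt2

open Groth.Agent.Sga4A.TotAcyc K297.SieveExt Groth.Agent.CohtopB

variable {C D : Type u} [SmallCategory C] [SmallCategory D]

/-- `F ↦ F ∘ u`, as a functor to presheaves (sheaves for the trivial topology). -/
@[simps]
def GB (J : GrothendieckTopology C) (u : D ⥤ C) :
    Sheaf J AddCommGrpCat.{u} ⥤ Sheaf (⊥ : GrothendieckTopology D) AddCommGrpCat.{u} where
  obj F := ⟨u.op ⋙ F.obj, Presheaf.isSheaf_bot _⟩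
  map f := ⟨Functor.whiskerLeft u.op f.hom⟩

instance (J : GrothendieckTopology C) (u : D ⥤ C) : (GB J u).Additive where

/-- The left adjoint of `GB J u` when `u` is continuous for some topology `K`. -/
noncomputable def adjGB (J : GrothendieckTopology C) (K : GrothendieckTopology D) (u : D ⥤ C)
    [u.IsContinuous K J] :
    (sheafToPresheaf (⊥ : GrothendieckTopology D) AddCommGrpCat.{u} ⋙
      presheafToSheaf K AddCommGrpCat.{u}) ⋙ u.sheafPullback AddCommGrpCat.{u} K J ⊣ GB J u :=
  (((sheafBotEquivalence AddCommGrpCat.{u}).toAdjunction.comp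
    (sheafificationAdjunction K AddCommGrpCat.{u})).comp
    (u.sheafAdjunctionContinuous AddCommGrpCat.{u} K J)).ofNatIsoRight (Iso.refl (GB J u))

/-- The left adjoint of `GB J (𝟭 C)`. -/
noncomputable def adjGBId (J : GrothendieckTopology C) :
    sheafToPresheaf (⊥ : GrothendieckTopology C) AddCommGrpCat.{u} ⋙
      presheafToSheaf J AddCommGrpCat.{u} ⊣ GB J (𝟭 C) :=
  ((sheafBotEquivalence AddCommGrpCat.{u}).toAdjunction.comp
    (sheafificationAdjunction J AddCommGrpCat.{u})).ofNatIsoRight (Iso.refl (GB J (𝟭 C)))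

variable {J : GrothendieckTopology C}

/-- Sections of an epimorphism whose kernel has no `H¹`. -/
lemma surjective_app {S : ShortComplex (Sheaf J AddCommGrpCat.{u})} (hS : S.ShortExact) (U : C)
    (h : Subsingleton (CohSite.HU S.X₁ 1 U)) : Function.Surjective (S.g.hom.app (op U)) := by
  intro s
  have h' : Subsingleton (Abelian.Ext (CohCx.freeSheaf J U) S.X₁ 1) := h
  obtain ⟨t, ht⟩ := exists_lift_of_subsingleton_ext hS (CohCx.freeSheaf J U) h'
    ((FreeSheafHom.homEquivSections U S.X₃).symm s)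
  refine ⟨FreeSheafHom.homEquivSections U S.X₂ t, ?_⟩
  have h1 := congrArg (FreeSheafHom.homEquivSections U S.X₃) ht
  rw [AddEquiv.apply_symm_apply] at h1
  exact h1

lemma epi_GB_map (u : D ⥤ C) {F G : Sheaf J AddCommGrpCat.{u}} (g : F ⟶ G)
    (h : ∀ V : D, Function.Surjective (g.hom.app (op (u.obj V)))) : Epi ((GB J u).map g) := by
  have : Sheaf.IsLocallySurjective ((GB J u).map g) :=
    Presheaf.isLocallySurjective_of_surjective _ _ (fun V => h V.unop)
  infer_instance

section Acyc

variable (J) (K : GrothendieckTopology D) (u : D ⥤ C) [u.IsContinuous K J]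
  {L : Sheaf (⊥ : GrothendieckTopology D) AddCommGrpCat.{u} ⥤ Sheaf J AddCommGrpCat.{u}}
  (adj : L ⊣ GB J u) [L.PreservesMonomorphisms]

include adj in
/-- If `F` is acyclic on the objects `u V` then `F ∘ u` has no cohomology on covering sieves in the
category of presheaves. -/
theorem subsingleton_ext_sieve (F : Sheaf J AddCommGrpCat.{u})
    (hF : ∀ (V : D) (q : ℕ), Subsingleton (CohSite.HU F (q + 1) (u.obj V))) {V : D} {R : Sieve V}
    (hR : R ∈ K V) (q : ℕ) :
    Subsingleton (Abelian.Ext (ZR (⊥ : GrothendieckTopology D) R.functor) ((GB J u).obj F) (q + 1)) := by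
  refine subsingleton_ext_of_adj adj (ZR (⊥ : GrothendieckTopology D) R.functor)
    (fun F => ∀ (V : D) (q : ℕ), Subsingleton (CohSite.HU F (q + 1) (u.obj V))) ?_ ?_ ?_ q F hF
  · intro S hS h1 hI V q
    exact subsingleton_ext_of_succ hS _ q (h1 V (q + 1))
  · intro S hS h1 hI
    exact epi_GB_map u S.g (fun V => surjective_app hS _ (h1 V 0))
  · intro S hS h1 hI b
    let S₂ : Sheaf K AddCommGrpCat.{u} := (CohSite.push J K u).obj S.X₂
    let S₃ : Sheaf K AddCommGrpCat.{u} := (CohSite.push J K u).obj S.X₃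
    obtain ⟨t, ht⟩ := exists_section S₃ hR (homR R.functor ((GB J u).obj S.X₃) b)
    obtain ⟨t', ht'⟩ := surjective_app hS _ (h1 V 0) t
    obtain ⟨a, ha⟩ := (homR R.functor ((GB J u).obj S.X₂)).surjective (ofSection R S₂.obj t')
    refine ⟨a, ?_⟩
    apply (homR R.functor ((GB J u).obj S.X₃)).injective
    refine (homR_comp R.functor a ((GB J u).map S.g)).trans ?_
    refine (congrArg (fun z => z ≫ Functor.whiskerRight ((GB J u).map S.g).hom
      (forget AddCommGrpCat.{u})) ha).trans ?_
    refine (ofSection_whisker ((GB J u).map S.g).hom t').trans ?_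
    refine Eq.trans ?_ ht
    exact congrArg (ofSection R S₃.obj) ht'

end Acyc

section Converse

/-- The property that all covering sieves have no cohomology with values in `F` in presheaves. -/
def SieveAcyclic (F : Sheaf J AddCommGrpCat.{u}) : Prop :=
  ∀ (X : C) (R : Sieve X), R ∈ J X → ∀ q : ℕ,
    Subsingleton (Abelian.Ext (ZR (⊥ : GrothendieckTopology C) R.functor) ((GB J (𝟭 C)).obj F) (q + 1))

lemma comp_factorThruImage {B : Type*} [Category B] [Abelian B] {X Y Z : B} (f : X ⟶ Y) (g : Y ⟶ Z)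
    (w : f ≫ g = 0) : f ≫ Abelian.factorThruImage g = 0 := by
  rw [← cancel_mono (Abelian.image.ι g), Category.assoc, Abelian.image.fac, zero_comp, w]

/-- The exact sequence `0 → X₁ → X₂ → im → 0`. -/
lemma shortExact_image {B : Type*} [Category B] [Abelian B] {X Y Z : B} (f : X ⟶ Y) (g : Y ⟶ Z)
    (w : f ≫ g = 0) [Mono f] (h : (ShortComplex.mk f g w).Exact) :
    (ShortComplex.mk f (Abelian.factorThruImage g) (comp_factorThruImage f g w)).ShortExact := by
  refine { exact := ?_, mono_f := inferInstanceAs (Mono f),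
           epi_g := inferInstanceAs (Epi (Abelian.factorThruImage g)) }
  rw [ShortComplex.exact_iff_exact_up_to_refinements] at h ⊢
  intro A x hx
  refine h x ?_
  have key : ∀ (x : A ⟶ Y), x ≫ Abelian.factorThruImage g = 0 → x ≫ g = 0 := by
    intro x hx'
    have e : (x ≫ Abelian.factorThruImage g) ≫ Abelian.image.ι g = 0 := by rw [hx', zero_comp]
    rwa [Category.assoc, Abelian.image.fac] at e
  exact key x hx

/-- Lifting through the image. -/
lemma exists_lift_of_ext_image {B : Type*} [Category B] [Abelian B] [HasExt B] {X Y Z W : B}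
    (f : X ⟶ Y) (g : Y ⟶ Z) (w : f ≫ g = 0) [Mono f] (h : (ShortComplex.mk f g w).Exact)
    (hW : Subsingleton (Abelian.Ext W X 1)) (b : W ⟶ Z) (hb : b ≫ cokernel.π g = 0) :
    ∃ t : W ⟶ Y, t ≫ g = b := by
  obtain ⟨t, ht⟩ := exists_lift_of_subsingleton_ext (shortExact_image f g w h) W hW
    (kernel.lift (cokernel.π g) b hb)
  refine ⟨t, ?_⟩
  have h1 : t ≫ Abelian.factorThruImage g = kernel.lift (cokernel.π g) b hb := ht
  rw [← Abelian.image.fac g, ← Category.assoc, h1]
  exact kernel.lift_ι _ _ _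

/-- A map from the free presheaf on a sieve attached to a section which is locally in the image of `g`
is killed by the cokernel. -/
lemma comp_coker_eq_zero {C : Type u} [SmallCategory C] {P Q : Sheaf (⊥ : GrothendieckTopology C) AddCommGrpCat.{u}}
    (g : P ⟶ Q) {X : C} (R : Sieve X) (s : Q.obj.obj (op X))
    (hR : ∀ ⦃Y : C⦄ (f : Y ⟶ X), R f → ∃ t : P.obj.obj (op Y), g.hom.app (op Y) t = Q.obj.map f.op s)
    (b : ZR (⊥ : GrothendieckTopology C) R.functor ⟶ Q)
    (hb : homR R.functor Q b = ofSection R Q.obj s) : b ≫ cokernel.π g = 0 := by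
  apply (homR R.functor _).injective
  have h0 : (0 : ZR (⊥ : GrothendieckTopology C) R.functor ⟶ cokernel g) = b ≫ 0 := by
    rw [comp_zero]
  rw [h0, homR_comp, homR_comp, hb]
  ext Y f
  obtain ⟨t, ht⟩ := hR f.1 f.2
  change (cokernel.π g).hom.app Y (Q.obj.map f.1.op s) =
    (0 : Q ⟶ cokernel g).hom.app Y (Q.obj.map f.1.op s)
  have h2 : (cokernel.π g).hom.app Y (g.hom.app Y t) = 0 :=
    congr(($(cokernel.condition g)).hom.app Y t)
  have h3 : g.hom.app Y t = Q.obj.map f.1.op s := ht
  rw [← h3, h2]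
  rfl

lemma surjective_app_of_sieveAcyclic {S : ShortComplex (Sheaf J AddCommGrpCat.{u})} (hS : S.ShortExact)
    (h1 : SieveAcyclic S.X₁) (X : C) : Function.Surjective (S.g.hom.app (op X)) := by
  intro s
  have hG : (GB J (𝟭 C)).IsRightAdjoint := (adjGBId J).isRightAdjoint
  have hepi := hS.epi_g
  have hmono := hS.mono_f
  have hls : Sheaf.IsLocallySurjective S.g :=
    (Sheaf.isLocallySurjective_iff_epi' AddCommGrpCat.{u} S.g).2 inferInstance
  have hR : Presheaf.imageSieve S.g.hom s ∈ J X := hls.imageSieve_mem s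
  generalize hRdef : Presheaf.imageSieve S.g.hom s = R at hR
  obtain ⟨b, hb⟩ := (homR R.functor ((GB J (𝟭 C)).obj S.X₃)).surjective (ofSection R S.X₃.obj s)
  have hb0 : b ≫ cokernel.π ((GB J (𝟭 C)).map S.g) = 0 := by
    refine comp_coker_eq_zero ((GB J (𝟭 C)).map S.g) R s (fun Y f hf => ?_) b hb
    subst hRdef
    exact hf
  have hker := (isLimitForkMapOfIsLimit' (GB J (𝟭 C)) _ (hS.fIsKernel))
  have hex : (ShortComplex.mk ((GB J (𝟭 C)).map S.f) ((GB J (𝟭 C)).map S.g) (by
      rw [← Functor.map_comp, S.zero, Functor.map_zero])).Exact := ShortComplex.exact_of_f_is_kernel _ hker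
  obtain ⟨t, ht⟩ := exists_lift_of_ext_image ((GB J (𝟭 C)).map S.f) ((GB J (𝟭 C)).map S.g) _ hex
    (h1 X R hR 0) b hb0
  obtain ⟨x, hx⟩ := exists_section S.X₂ hR (homR R.functor ((GB J (𝟭 C)).obj S.X₂) t)
  refine ⟨x, section_ext S.X₃ hR _ _ ?_⟩
  refine (ofSection_whisker S.g.hom x).symm.trans ?_
  refine Eq.trans ?_ hb
  rw [← ht, homR_comp, ← hx]
  rfl

theorem subsingleton_HU_of_sieve (q : ℕ) : ∀ (F : Sheaf J AddCommGrpCat.{u}) (_ : SieveAcyclic F)
    (X : C), Subsingleton (CohSite.HU F (q + 1) X) := by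
  have hG : (GB J (𝟭 C)).IsRightAdjoint := (adjGBId J).isRightAdjoint
  have hmono : (sheafToPresheaf (⊥ : GrothendieckTopology C) AddCommGrpCat.{u} ⋙
      presheafToSheaf J AddCommGrpCat.{u}).PreservesMonomorphisms := inferInstance
  have key : ∀ (S : ShortComplex (Sheaf J AddCommGrpCat.{u})), S.ShortExact → SieveAcyclic S.X₁ →
      Injective S.X₂ → SieveAcyclic S.X₃ := by
    intro S hS h1 hI X R hR q
    have hS' : (S.map (GB J (𝟭 C))).ShortExact := shortExact_map _ hS
      (epi_GB_map _ S.g (fun V => surjective_app_of_sieveAcyclic hS h1 V))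
    have hI' : Injective (S.map (GB J (𝟭 C))).X₂ := Injective.injective_of_adjoint (adjGBId J) _
    exact subsingleton_ext_of_succ hS' _ q (h1 X R hR (q + 1))
  induction q with
  | zero =>
    intro F hF X
    obtain ⟨S, hS, rfl, hI⟩ := exists_shortExact_injective F
    refine subsingleton_ext_one_of_lift hS (CohCx.freeSheaf J X) (fun b => ?_)
    obtain ⟨x, hx⟩ := surjective_app_of_sieveAcyclic hS hF X (FreeSheafHom.homEquivSections X _ b)
    refine ⟨(FreeSheafHom.homEquivSections X S.X₂).symm x, ?_⟩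
    apply (FreeSheafHom.homEquivSections X S.X₃).injective
    rw [← hx]
    exact congrArg (S.g.hom.app (op X)).hom ((FreeSheafHom.homEquivSections X S.X₂).apply_symm_apply x)
  | succ q ih =>
    intro F hF X
    obtain ⟨S, hS, rfl, hI⟩ := exists_shortExact_injective F
    exact subsingleton_ext_succ hS (CohCx.freeSheaf J X) _ (ih S.X₃ (key S hS hF hI) X)

end Converse

end K297.SieveExt2
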