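import Groth.Agent.CohSite.K297.LeraySS
import Groth.Agent.CohSite.K297.SieveExt2
import Mathlib.CategoryTheory.Adjunction.Additive

/-!
# The spectral sequence from presheaf cohomology to sheaf cohomology

`presheafSS`: for a presheaf of sets `R` and an abelian sheaf `M` on a small site,
`Ext^p_{PSh}(ℤ[R], H^q(M)) ⇒ Ext^{p+q}_{Sh}(ℤ[R]^#, M)`.
`sieveIso`: `ℤ[R]^# ≅ ℤ[h_X]^#` for a covering sieve `R` of `X`.
-/

set_option autoImplicit false
universe v u

open CategoryTheory CategoryTheory.Limits CategoryTheory.Abelian Opposite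

namespace K297.PresheafSS

open Groth.Agent.CohtopA.ExtRes Groth.Agent.CohtopA.RDComp Groth.Agent.CohtopB K297.RDHom
  K297.SieveExt K297.SieveExt2 Groth.Agent.CohtopA.RpushSheafify Groth.Agent.CohtopA.FreeYo

variable {C : Type u} [SmallCategory C] (J : GrothendieckTopology C)

instance : (sheafBotEquivalence (C := C) AddCommGrpCat.{u}).inverse.Additive where

/-- `GB J (𝟭 C)` in terms of the presheaves `Hom(ℤ[V], -)`. -/
noncomputable def gbIso : GB J (𝟭 C) ≅ homPsh (𝟭 C ⋙ freeShF J) ⋙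
    (sheafBotEquivalence (C := C) AddCommGrpCat.{u}).inverse :=
  (Functor.isoWhiskerRight (homPshIso J (𝟭 C)) (sheafBotEquivalence (C := C) AddCommGrpCat.{u}).inverse).symm

/-- The derived functors of the inclusion in presheaves. -/
noncomputable def rdGB (M : Sheaf J AddCommGrpCat.{u}) (q : ℕ) :
    ((GB J (𝟭 C)).rightDerived q).obj M ≅ ⟨M.cohomologyPresheaf q, Presheaf.isSheaf_bot _⟩ :=
  (rightDerivedCongr (gbIso J) q ≪≫
    rightDerivedCompIso (homPsh (𝟭 C ⋙ freeShF J)) (sheafBotEquivalence (C := C) AddCommGrpCat.{u}).inverse q ≪≫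
    Functor.isoWhiskerRight (rightDerivedIso (𝟭 C ⋙ freeShF J) q)
      (sheafBotEquivalence (C := C) AddCommGrpCat.{u}).inverse).app M

lemma gbHom_nat (P : Cᵒᵖ ⥤ AddCommGrpCat.{u}) {F G : Sheaf J AddCommGrpCat.{u}} (φ : F ⟶ G)
    (x : (presheafToSheaf (⊥ : GrothendieckTopology C) AddCommGrpCat.{u}).obj P ⟶ (GB J (𝟭 C)).obj F) :
    ((sheafificationAdjunction J AddCommGrpCat.{u}).homEquiv P G).symm
        ((sheafificationAdjunction (⊥ : GrothendieckTopology C) AddCommGrpCat.{u}).homEquiv P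
          ((GB J (𝟭 C)).obj G) (x ≫ (GB J (𝟭 C)).map φ)) =
      ((sheafificationAdjunction J AddCommGrpCat.{u}).homEquiv P F).symm
        ((sheafificationAdjunction (⊥ : GrothendieckTopology C) AddCommGrpCat.{u}).homEquiv P
          ((GB J (𝟭 C)).obj F) x) ≫ φ := by
  apply ((sheafificationAdjunction J AddCommGrpCat.{u}).homEquiv P G).injective
  refine (((sheafificationAdjunction J AddCommGrpCat.{u}).homEquiv P G).apply_symm_apply _).trans ?_
  refine Eq.trans ?_ ((sheafificationAdjunction J AddCommGrpCat.{u}).homEquiv_naturality_right _ _).symm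
  refine ((sheafificationAdjunction (⊥ : GrothendieckTopology C)
    AddCommGrpCat.{u}).homEquiv_naturality_right _ _).trans ?_
  exact congrArg (fun (t : P ⟶ F.obj) => t ≫ φ.hom)
    (((sheafificationAdjunction J AddCommGrpCat.{u}).homEquiv P F).apply_symm_apply _).symm

/-- Maps out of the free presheaf and out of the free sheaf. -/
noncomputable def gbHomIso (P : Cᵒᵖ ⥤ AddCommGrpCat.{u}) :
    GB J (𝟭 C) ⋙ homF ((presheafToSheaf (⊥ : GrothendieckTopology C) AddCommGrpCat.{u}).obj P) ≅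
      homF ((presheafToSheaf J AddCommGrpCat.{u}).obj P) :=
  NatIso.ofComponents (fun F =>
    (((sheafificationAdjunction (⊥ : GrothendieckTopology C) AddCommGrpCat.{u}).homAddEquiv P
      ((GB J (𝟭 C)).obj F)).trans
      ((sheafificationAdjunction J AddCommGrpCat.{u}).homAddEquiv P F).symm).toAddCommGrpIso)
    (fun {F G} φ => by
      ext x
      exact gbHom_nat J P φ x)

theorem presheafSS (P : Cᵒᵖ ⥤ AddCommGrpCat.{u}) (M : Sheaf J AddCommGrpCat.{u})
    (H : ℕ → AddCommGrpCat.{u})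
    (hH : ∀ n, Nonempty (AddCommGrpCat.of (Ext ((presheafToSheaf J AddCommGrpCat.{u}).obj P) M n) ≅ H n))
    (X : ℕ → ℕ → AddCommGrpCat.{u})
    (hX : ∀ p q, Nonempty (AddCommGrpCat.of (Ext
      ((presheafToSheaf (⊥ : GrothendieckTopology C) AddCommGrpCat.{u}).obj P)
      ⟨M.cohomologyPresheaf q, Presheaf.isSheaf_bot _⟩ p) ≅ X p q))
    (Z Z' : AddCommGrpCat.{u}) (hZ : IsZero Z) (hZ' : IsZero Z') :
    ∃ (E : E₂CohomologicalSpectralSequence AddCommGrpCat.{u})
      (a : SpSeq.Abutment E (fun n : ℤ => if 0 ≤ n then H n.toNat else Z)),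
      (∀ n, a.IsFinite n) ∧ SpSeq.IsBounded E ∧
      ∀ p q : ℤ, Nonempty ((E.page 2 le_rfl).X (p, q) ≅
        (if 0 ≤ p ∧ 0 ≤ q then X p.toNat q.toNat else Z')) := by
  refine K297.LeraySS.exists_ss (GB J (𝟭 C))
    (homF ((presheafToSheaf (⊥ : GrothendieckTopology C) AddCommGrpCat.{u}).obj P))
    (fun Q hQ q hq => ?_) M H (fun n => ?_) X (fun p q => ?_) Z Z' hZ hZ'
  · obtain ⟨q, rfl⟩ : ∃ q', q = q' + 1 := ⟨q - 1, by omega⟩
    have hmono : (sheafToPresheaf (⊥ : GrothendieckTopology C) AddCommGrpCat.{u} ⋙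
        presheafToSheaf J AddCommGrpCat.{u}).PreservesMonomorphisms := inferInstance
    have : Injective ((GB J (𝟭 C)).obj Q) := Injective.injective_of_adjoint (adjGBId J) _
    have : Subsingleton (Ext ((presheafToSheaf (⊥ : GrothendieckTopology C) AddCommGrpCat.{u}).obj P)
      ((GB J (𝟭 C)).obj Q) (q + 1)) := Ext.subsingleton_of_injective _ _ q
    exact IsZero.of_iso (AddCommGrpCat.isZero_of_subsingleton _) (rdHomIso _ _ (q + 1))
  · obtain ⟨e⟩ := hH n
    exact ⟨(rightDerivedCongr (gbHomIso J P) n).app M ≪≫ rdHomIso _ M n ≪≫ e⟩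
  · obtain ⟨e⟩ := hX p q
    exact ⟨((homF ((presheafToSheaf (⊥ : GrothendieckTopology C) AddCommGrpCat.{u}).obj P)).rightDerived p).mapIso
      (rdGB J M q) ≪≫ rdHomIso _ _ p ≪≫ e⟩

section Sieve

variable {J} {X : C} {R : Sieve X}

/-- The map of free sheaves attached to a sieve. -/
noncomputable abbrev sieveMap (J : GrothendieckTopology C) (R : Sieve X) :
    ZR J R.functor ⟶ CohCx.freeSheaf J X :=
  (presheafToSheaf J AddCommGrpCat.{u}).map (Functor.whiskerRight R.functorInclusion AddCommGrpCat.free.{u})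

lemma homR_sieveMap {F : Sheaf J AddCommGrpCat.{u}} (g : CohCx.freeSheaf J X ⟶ F) :
    homR R.functor F (sieveMap J R ≫ g) = R.functorInclusion ≫ homR (yoneda.obj X) F g := by
  simp only [homR, Equiv.trans_apply]
  rw [Adjunction.homEquiv_naturality_left]
  exact Adjunction.homEquiv_naturality_left (AddCommGrpCat.adj.{u}.whiskerRight Cᵒᵖ) R.functorInclusion _

lemma functorInclusion_comp {P : Cᵒᵖ ⥤ AddCommGrpCat.{u}} (h : yoneda.obj X ⟶ P ⋙ forget AddCommGrpCat.{u}) :
    R.functorInclusion ≫ h = ofSection R P (yonedaEquiv h) := by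
  ext Y f
  have := ConcreteCategory.congr_hom (h.naturality f.1.op) (𝟙 X)
  change h.app Y (f.1 ≫ 𝟙 X) = _ at this
  rw [Category.comp_id] at this
  exact this

lemma isIso_sieveMap (hR : R ∈ J X) : IsIso (sieveMap J R) := by
  rw [isIso_iff_coyoneda_map_bijective]
  intro F
  constructor
  · intro g g' h
    have h' : sieveMap J R ≫ g = sieveMap J R ≫ g' := h
    have h2 := congrArg (homR R.functor F) h'
    rw [homR_sieveMap, homR_sieveMap, functorInclusion_comp, functorInclusion_comp] at h2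
    exact (homR (yoneda.obj X) F).injective (yonedaEquiv.injective (section_ext F hR _ _ h2))
  · intro k
    obtain ⟨t, ht⟩ := exists_section F hR (homR R.functor F k)
    refine ⟨(homR (yoneda.obj X) F).symm (yonedaEquiv.symm t), ?_⟩
    apply (homR R.functor F).injective
    change homR R.functor F (sieveMap J R ≫ _) = _
    rw [homR_sieveMap, functorInclusion_comp, Equiv.apply_symm_apply, Equiv.apply_symm_apply]
    exact ht

/-- `Ext` groups of the free sheaf on a covering sieve. -/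
noncomputable def extSieveIso (hR : R ∈ J X) (M : Sheaf J AddCommGrpCat.{u}) (n : ℕ) :
    AddCommGrpCat.of (Ext (ZR J R.functor) M n) ≅ AddCommGrpCat.of (CohSite.HU M n X) :=
  have := isIso_sieveMap hR
  ((extFunctor.{u} n).mapIso (asIso (sieveMap J R)).op).symm.app M

end Sieve

end K297.PresheafSS
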